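import Cfsg.Agent.H10.Fi23T.G7.RChk0
import Cfsg.Agent.H10.Fi23T.G7.RChk1
import Cfsg.Agent.H10.Fi23T.G7.RChk2

set_option autoImplicit false
set_option linter.all false

namespace Cfsg.Agent.H10.Fi23T

open Cfsg.Agent.H35 Cfsg.Spor

theorem g7_rall : ∀ p, p < 5678 → g7_rf p = true := by
  apply allR_blocks g7_rf 5678 10 6 _ (by decide)
  intro k hk
  interval_cases k
  · exact g7_rchk_0
  · exact g7_rchk_1
  · exact g7_rchk_2
  · exact g7_rchk_3
  · exact g7_rchk_4
  · exact g7_rchk_5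

theorem g7_circ_ok : circChk (fullW g7_rws g7_prels) g7_circT 0 g7_ccert = true := by decide +kernel
theorem g7_hc_ok : allR (fun c => hcChk g7_rsw g7_hc1T g7_hc2T c) 6 3 0 = true := by decide +kernel
theorem g7_h0 : RData.aord (g7_rd.ent 0 1) = 0 := by decide +kernel

end Cfsg.Agent.H10.Fi23T
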